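import Mathlib
import Groth.Agent.DimLib.ProjCover
import Groth.Agent.DimLib.ProjPrime
import Groth.Agent.DimLib.ProjDim
import Groth.Agent.Coherent.ProjSpaceBase
import Groth.Agent.Coherent.ProjSpaceFinite
import Groth.Agent.Props12.KerReduced

/-!
# Finite multisections of projective families with fibres of dimension `d`
-/

set_option autoImplicit false
set_option linter.style.haveILetI false
set_option backward.isDefEq.respectTransparency false

universe u

open CategoryTheory CategoryTheory.Limits AlgebraicGeometry MvPolynomial TopologicalSpace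

namespace Groth.Agent.QFac29

open Groth.Agent.DimLib Groth.Agent.DimLib.PN

variable {R : Type u} [CommRing R] {N : ℕ}

/-- the basic open of `g` as an open of `Spec R` -/
noncomputable def Dop (g : R) : (Spec (CommRingCat.of R)).Opens := PrimeSpectrum.basicOpen g

section residue

variable (p : PrimeSpectrum R)

local notation "κp" => Ideal.ResidueField (PrimeSpectrum.asIdeal p)

noncomputable def pk : CohB1.ProjSpace N κp ⟶ CohB1.ProjSpace N R :=
  Proj.map (Coherent.polyGradedMap N R κp) (Coherent.polyGradedMap_irrelevant N R κp)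

theorem spec_residueField (w : ↥(Spec (CommRingCat.of κp))) :
    Spec.map (CommRingCat.ofHom (algebraMap R κp)) w = p := by
  refine PrimeSpectrum.ext ?_
  haveI := (w : PrimeSpectrum κp).isPrime
  show Ideal.comap (algebraMap R κp) (w : PrimeSpectrum κp).asIdeal = p.asIdeal
  rw [(Ideal.eq_bot_or_top (w : PrimeSpectrum κp).asIdeal).resolve_right (w : PrimeSpectrum κp).isPrime.ne_top,
    ← RingHom.ker_eq_comap_bot]
  exact Ideal.ker_algebraMap_residueField p.asIdeal

theorem isEmbedding_pk : Topology.IsEmbedding (pk (N := N) p) := by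
  have sq := Coherent.isPullback_projSpace N R κp
  haveI : IsPreimmersion (Spec.map (CommRingCat.ofHom (algebraMap R κp))) := by
    refine IsPreimmersion.mk_SpecMap ?_ ?_
    · exact Topology.IsEmbedding.of_subsingleton _
    · exact Ideal.surjectiveOnStalks_residueField p.asIdeal
  haveI : IsPreimmersion (pk (N := N) p) := MorphismProperty.of_isPullback sq.flip inferInstance
  exact (pk (N := N) p).isEmbedding

theorem toSpec_pk (w : ↥(CohB1.ProjSpace N κp)) : CohB1.ProjSpace.toSpec N R (pk p w) = p := by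
  have sq := Coherent.isPullback_projSpace N R κp
  have e := congrArg (fun f : CohB1.ProjSpace N κp ⟶ Spec (CommRingCat.of R) => f w) sq.w
  exact e.trans (spec_residueField p _)

theorem exists_pk (z : ↥(CohB1.ProjSpace N R)) (hz : CohB1.ProjSpace.toSpec N R z = p) :
    ∃ w, pk p w = z := by
  have sq := Coherent.isPullback_projSpace N R κp
  obtain ⟨w, hw, -⟩ := Scheme.exists_preimage_of_isPullback sq z (⊥ : PrimeSpectrum κp)
    (hz.trans (spec_residueField p _).symm)
  exact ⟨w, hw⟩

theorem mem_pk_iff (w : ProjectiveSpectrum (CohB1.polyGrading N κp)) (H : MvPolynomial (Fin (N + 1)) R) :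
    H ∈ ((pk p w : ↥(CohB1.ProjSpace N R)) : ProjectiveSpectrum (CohB1.polyGrading N R)).asHomogeneousIdeal.toIdeal ↔
      MvPolynomial.map (algebraMap R κp) H ∈ w.asHomogeneousIdeal.toIdeal :=
  Iff.rfl

/-- forms over the residue field lift up to a nonzero scalar -/
theorem exists_lift_form (h : MvPolynomial (Fin (N + 1)) κp) {d : ℕ} (hh : h.IsHomogeneous d) :
    ∃ (H : MvPolynomial (Fin (N + 1)) R) (c : κp), c ≠ 0 ∧ H.IsHomogeneous d ∧
      MvPolynomial.map (algebraMap R κp) H = MvPolynomial.C c * h := by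
  classical
  obtain ⟨b, hb⟩ := IsLocalization.exist_integer_multiples (nonZeroDivisors (R ⧸ p.asIdeal)) h.support
    (fun m => h.coeff m)
  have hb' : ∀ m : Fin (N + 1) →₀ ℕ, ∃ a : R, m ∈ h.support →
      algebraMap R κp a = algebraMap (R ⧸ p.asIdeal) κp (b : R ⧸ p.asIdeal) * h.coeff m := by
    intro m
    by_cases hm : m ∈ h.support
    · obtain ⟨a, ha⟩ := hb m hm
      obtain ⟨a, rfl⟩ := Ideal.Quotient.mk_surjective a
      refine ⟨a, fun _ => ?_⟩
      rw [← Algebra.smul_def]
      rw [show algebraMap R κp a = algebraMap (R ⧸ p.asIdeal) κp (Ideal.Quotient.mk p.asIdeal a) from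
        IsScalarTower.algebraMap_apply R (R ⧸ p.asIdeal) κp a, ha]
    · exact ⟨0, fun h' => absurd h' hm⟩
  choose a ha using hb'
  refine ⟨∑ m ∈ h.support, monomial m (a m), algebraMap (R ⧸ p.asIdeal) κp (b : R ⧸ p.asIdeal),
    IsFractionRing.to_map_ne_zero_of_mem_nonZeroDivisors b.2, IsHomogeneous.sum _ _ _ fun m hm => ?_, ?_⟩
  · refine isHomogeneous_monomial _ ?_
    have := hh (mem_support_iff.1 hm)
    simpa [Finsupp.weight_apply, Finsupp.degree, Finsupp.sum] using this
  · rw [map_sum]
    conv_rhs => rw [h.as_sum, Finset.mul_sum]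
    refine Finset.sum_congr rfl fun m hm => ?_
    rw [map_monomial, ha m hm, C_mul_monomial]

end residue

/-- A closed subscheme of `P^N` over a Noetherian domain with fibres of dimension at most `d` at `p` and
at least `d` at the generic point has an integral multisection finite over a neighbourhood of `p`. -/
theorem exists_multisection [IsDomain R] [IsNoetherianRing R] {X : Scheme.{u}}
    (i : X ⟶ CohB1.ProjSpace N R) [IsClosedImmersion i] (d : ℕ) (p : PrimeSpectrum R)
    (hp : topologicalKrullDim ((i ≫ CohB1.ProjSpace.toSpec N R) ⁻¹' {p} : Set X) ≤ (d : WithBot ℕ∞))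
    (hη : (d : WithBot ℕ∞) ≤
      topologicalKrullDim ((i ≫ CohB1.ProjSpace.toSpec N R) ⁻¹' {(⊥ : PrimeSpectrum R)} : Set X)) :
    ∃ (g : R) (_ : g ∉ p.asIdeal) (Z : Scheme.{u}) (_ : IsIntegral Z) (j : Z ⟶ X)
      (h : Z ⟶ ((Dop g) : Scheme.{u})),
      IsFinite h ∧ h ≫ (Dop g).ι =
        j ≫ i ≫ CohB1.ProjSpace.toSpec N R ∧
      (j ≫ i ≫ CohB1.ProjSpace.toSpec N R) (genericPoint Z) = (⊥ : PrimeSpectrum R) := by
  classical
  let q := i ≫ CohB1.ProjSpace.toSpec N R
  haveI : IsProper (CohB1.ProjSpace.toSpec N R) := Coherent.isProper_projSpace_toSpec (n := N) (R := R)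
  haveI : IsProper q := MorphismProperty.comp_mem @IsProper i (CohB1.ProjSpace.toSpec N R)
    (inferInstance : IsProper i) (Coherent.isProper_projSpace_toSpec (n := N) (R := R))
  have hrange : IsClosed (Set.range i) := i.isClosedEmbedding.isClosed_range
  -- comparison of a fibre with a closed subset of projective space over the residue field
  have hfib : ∀ s : PrimeSpectrum R, topologicalKrullDim ((pk (N := N) s) ⁻¹' Set.range i) =
      topologicalKrullDim (q ⁻¹' {s} : Set X) := by
    intro s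
    let C := (pk (N := N) s) ⁻¹' Set.range i
    have hC : ∀ w : C, ∃ x : (q ⁻¹' {s} : Set X), i x.1 = pk s w.1 := fun w => by
      obtain ⟨x, hx⟩ := w.2
      exact ⟨⟨x, show CohB1.ProjSpace.toSpec N R (i x) = s by rw [hx]; exact toSpec_pk s _⟩, hx⟩
    choose ψ hψ using hC
    have hX : ∀ x : (q ⁻¹' {s} : Set X), ∃ w : C, pk s w.1 = i x.1 := fun x => by
      obtain ⟨w, hw⟩ := exists_pk s (i x.1) x.2
      exact ⟨⟨w, x.1, hw.symm⟩, hw⟩
    choose χ hχ using hX
    refine le_antisymm ?_ ?_
    · refine Topology.IsInducing.topologicalKrullDim_le (f := ψ) ?_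
      refine ((i.isClosedEmbedding.isInducing.comp Topology.IsInducing.subtypeVal).of_comp_iff).1 ?_
      rw [show (⇑i ∘ Subtype.val) ∘ ψ = pk s ∘ Subtype.val from funext hψ]
      exact (isEmbedding_pk s).isInducing.comp Topology.IsInducing.subtypeVal
    · refine Topology.IsInducing.topologicalKrullDim_le (f := χ) ?_
      refine (((isEmbedding_pk s).isInducing.comp Topology.IsInducing.subtypeVal).of_comp_iff).1 ?_
      rw [show (⇑(pk s) ∘ Subtype.val) ∘ χ = i ∘ Subtype.val from funext hχ]
      exact i.isClosedEmbedding.isInducing.comp Topology.IsInducing.subtypeVal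
  -- forms without common zero on the fibre over `p`
  let C : Set (ProjectiveSpectrum (CohB1.polyGrading N p.asIdeal.ResidueField)) :=
    (pk (N := N) p) ⁻¹' Set.range i
  have hCcl : IsClosed C := hrange.preimage (pk (N := N) p).continuous
  obtain ⟨h, hhom, -, hcov⟩ := exists_forms_cover (∅ : Set (ProjectiveSpectrum (CohB1.polyGrading N p.asIdeal.ResidueField)))
    isClosed_empty (d + 1) C hCcl (fun z hz _ => by
      have h1 := (topologicalKrullDim_closed_eq_iSup (CohB1.ProjSpace.toSpec N p.asIdeal.ResidueField) hCcl).ge.trans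
        ((hfib p).le.trans hp)
      have h2 : (ptDim (CohB1.ProjSpace.toSpec N p.asIdeal.ResidueField) (pt z) : WithBot ℕ∞) ≤ d :=
        le_trans (le_iSup (fun x : (C : Set ↥(CohB1.ProjSpace N p.asIdeal.ResidueField)) =>
          (ptDim (CohB1.ProjSpace.toSpec N p.asIdeal.ResidueField) x.1 : WithBot ℕ∞)) ⟨pt z, hz⟩) h1
      have h3 : ptDim (CohB1.ProjSpace.toSpec N p.asIdeal.ResidueField) (pt z) ≤ d := by exact_mod_cast h2
      omega)
  choose deg hdeg hdegh using hhom
  choose H c hc hHhom hHmap using fun l => exists_lift_form p (h l) (hdegh l)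
  have hiff : ∀ (l : Fin (d + 1)) (w : ProjectiveSpectrum (CohB1.polyGrading N p.asIdeal.ResidueField)),
      H l ∈ ((pk p w : ↥(CohB1.ProjSpace N R)) : ProjectiveSpectrum (CohB1.polyGrading N R)).asHomogeneousIdeal.toIdeal ↔
        h l ∈ w.asHomogeneousIdeal.toIdeal := by
    intro l w
    rw [mem_pk_iff, hHmap]
    exact Ideal.unit_mul_mem_iff_mem _ ((Ne.isUnit (hc l)).map MvPolynomial.C)
  -- a point of the generic fibre on the first `d` forms
  obtain ⟨z0, hz0η, hz0⟩ : ∃ z0 : X, q z0 = (⊥ : PrimeSpectrum R) ∧ ∀ l : Fin d,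
      H l.succ ∈ ((i z0 : ↥(CohB1.ProjSpace N R)) : ProjectiveSpectrum (CohB1.polyGrading N R)).asHomogeneousIdeal.toIdeal := by
    let K := (⊥ : PrimeSpectrum R).asIdeal.ResidueField
    let C₀ : Set (ProjectiveSpectrum (CohB1.polyGrading N K)) := (pk (N := N) (⊥ : PrimeSpectrum R)) ⁻¹' Set.range i
    have hC₀ : IsClosed C₀ := hrange.preimage (pk (N := N) (⊥ : PrimeSpectrum R)).continuous
    obtain ⟨w, hw, hwd⟩ : ∃ w ∈ C₀, d ≤ ptDim (CohB1.ProjSpace.toSpec N K) (pt w) := by
      by_contra! hcon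
      have h1 := (topologicalKrullDim_closed_eq_iSup (CohB1.ProjSpace.toSpec N K) hC₀).le
      rcases Nat.eq_zero_or_pos d with hd | hd
      · haveI : IsEmpty C₀ := ⟨fun w => by have := hcon w.1 w.2; omega⟩
        have h3 := (hη.trans ((hfib ⊥).ge.trans h1))
        rw [iSup_of_empty] at h3
        exact (WithBot.natCast_ne_bot d) (le_bot_iff.1 h3)
      · have h2 : topologicalKrullDim C₀ ≤ ((d - 1 : ℕ) : WithBot ℕ∞) := h1.trans (iSup_le fun w => by
          have h4 := hcon w.1 w.2
          exact_mod_cast (show ptDim (CohB1.ProjSpace.toSpec N K) (pt w.1) ≤ d - 1 by omega))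
        have h3 : (d : WithBot ℕ∞) ≤ ((d - 1 : ℕ) : WithBot ℕ∞) := hη.trans ((hfib ⊥).ge.trans h2)
        have : d ≤ d - 1 := by exact_mod_cast h3
        omega
    let E : Finset (MvPolynomial (Fin (N + 1)) K) :=
      Finset.univ.image fun l : Fin d => MvPolynomial.map (algebraMap R K) (H l.succ)
    let I := w.asHomogeneousIdeal.toIdeal ⊔ Ideal.span (E : Set (MvPolynomial (Fin (N + 1)) K))
    have hIhom : I.IsHomogeneous (CohB1.polyGrading N K) := by
      refine w.asHomogeneousIdeal.isHomogeneous.sup (span_isHomogeneous ?_)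
      intro e he
      simp only [E, Finset.coe_image, Finset.coe_univ, Set.image_univ, Set.mem_range] at he
      obtain ⟨l, rfl⟩ := he
      exact ⟨_, (hHhom l.succ).map _⟩
    have hIm : I ≤ m0 N K := by
      refine sup_le (le_m0 w.isPrime w.asHomogeneousIdeal.isHomogeneous) (Ideal.span_le.2 ?_)
      intro e he
      simp only [E, Finset.coe_image, Finset.coe_univ, Set.image_univ, Set.mem_range] at he
      obtain ⟨l, rfl⟩ := he
      exact mem_m0_of_homogeneous ((hHhom l.succ).map _) (hdeg l.succ)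
    haveI := m0_isPrime (n := N) (k := K)
    obtain ⟨Q, hQ, -⟩ := Ideal.exists_minimalPrimes_le hIm
    have hcd := cdim_le_add w.isPrime E hQ
    have hcard : E.card ≤ d := Finset.card_image_le.trans (by simp)
    have hpt := ptDim_add_one w
    have hQne : Q ≠ m0 N K := by
      intro e
      have hm : cdim (m0 N K) = 0 := by
        have hb : ringKrullDim (MvPolynomial (Fin (N + 1)) K ⧸ m0 N K) = 0 := by
          have e1 := RingHom.quotientKerEquivOfSurjective
            (f := (MvPolynomial.constantCoeff : MvPolynomial (Fin (N + 1)) K →+* K)) fun a => ⟨MvPolynomial.C a, constantCoeff_C _ a⟩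
          rw [show ringKrullDim (MvPolynomial (Fin (N + 1)) K ⧸ m0 N K) = ringKrullDim K from
            ringKrullDim_eq_of_ringEquiv e1, ringKrullDim_eq_zero_of_field]
        have := (cdim_eq (n := N) (k := K) m0_isPrime).symm.trans hb
        exact_mod_cast this
      rw [e, hm] at hcd
      omega
    obtain ⟨v, hv⟩ := exists_point hQ.1.1 (isHomogeneous_of_mem_minimalPrimes hIhom hQ) hQne
    have hvC : v ∈ C₀ := by
      refine ((PN.specializes_iff w v).2 ?_).mem_closed hC₀ hw
      rw [hv]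
      exact le_sup_left.trans hQ.1.2
    obtain ⟨z0, hz0⟩ := hvC
    refine ⟨z0, show CohB1.ProjSpace.toSpec N R (i z0) = _ by rw [hz0]; exact toSpec_pk _ _, fun l => ?_⟩
    rw [hz0, mem_pk_iff, hv]
    exact hQ.1.2 (Ideal.mem_sup_right (Ideal.subset_span (Finset.mem_coe.2
      (Finset.mem_image.2 ⟨l, Finset.mem_univ _, rfl⟩))))
  -- the multisection
  let T : Closeds X := ⟨closure {z0}, isClosed_closure⟩
  let I := Scheme.IdealSheafData.vanishingIdeal T
  let Z₀ := I.subscheme
  have hZ₀r : Set.range I.subschemeι = closure {z0} := by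
    rw [Scheme.IdealSheafData.range_subschemeι]
    exact Scheme.IdealSheafData.coe_support_vanishingIdeal _
  let U₀ : (CohB1.ProjSpace N R).Opens := Proj.basicOpen (CohB1.polyGrading N R) (H 0)
  have hU₀ : IsAffineOpen U₀ := Proj.isAffineOpen_basicOpen _ _ (hHhom 0) (hdeg 0)
  let B : Set X := closure {z0} ∩ (i ⁻¹' (U₀ : Set ↥(CohB1.ProjSpace N R)))ᶜ
  have hBcl : IsClosed B := isClosed_closure.inter (U₀.2.preimage i.continuous).isClosed_compl
  have hpB : p ∉ q '' B := by
    rintro ⟨x, ⟨hx1, hx2⟩, hxp⟩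
    obtain ⟨w, hw⟩ := exists_pk p (i x) hxp
    obtain ⟨l, hl⟩ := hcov w ⟨x, hw.symm⟩ (by simp)
    apply hl
    rw [← hiff]
    refine Fin.cases ?_ (fun l' => ?_) l
    · by_contra h0
      refine hx2 ?_
      show i x ∈ Proj.basicOpen (CohB1.polyGrading N R) (H 0)
      rw [← hw]
      exact (ProjectiveSpectrum.mem_basicOpen _ _ _).2 h0
    · have hsp : (i z0 : ↥(CohB1.ProjSpace N R)) ⤳ i x := (specializes_iff_mem_closure.2 hx1).map i.continuous
      rw [hw]
      have hle := (ProjectiveSpectrum.le_iff_mem_closure (CohB1.polyGrading N R)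
        ((i z0 : ↥(CohB1.ProjSpace N R)) : ProjectiveSpectrum (CohB1.polyGrading N R))
        ((i x : ↥(CohB1.ProjSpace N R)) : ProjectiveSpectrum (CohB1.polyGrading N R))).2
        (specializes_iff_mem_closure.1 hsp)
      exact (show ((i z0 : ↥(CohB1.ProjSpace N R)) : ProjectiveSpectrum (CohB1.polyGrading N R)).asHomogeneousIdeal.toIdeal ≤
        ((i x : ↥(CohB1.ProjSpace N R)) : ProjectiveSpectrum (CohB1.polyGrading N R)).asHomogeneousIdeal.toIdeal from hle) (hz0 l')
  obtain ⟨_, ⟨g, rfl⟩, hgp, hgB⟩ := PrimeSpectrum.isTopologicalBasis_basic_opens.exists_subset_of_mem_open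
    (show p ∈ (q '' B)ᶜ from hpB) (q.isClosedMap _ hBcl).isOpen_compl
  refine ⟨g, hgp, ?_⟩
  let Dg : (Spec (CommRingCat.of R)).Opens := Dop g
  have hgB' : ∀ x ∈ closure ({z0} : Set X), q x ∈ Dg → i x ∈ U₀ := by
    intro x hx hxg
    by_contra hxU
    exact hgB hxg ⟨x, ⟨hx, hxU⟩, rfl⟩
  let q₀ := I.subschemeι ≫ q
  let W : Z₀.Opens := q₀ ⁻¹ᵁ Dg
  have hW : IsAffineOpen W := by
    let V : Z₀.Opens := (I.subschemeι ≫ i) ⁻¹ᵁ U₀
    have hV : IsAffineOpen V := hU₀.preimage _
    have hDg : IsAffineOpen Dg := IsAffineOpen.Spec_basicOpen g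
    haveI : IsAffineHom (V.ι ≫ q₀) := by
      haveI : IsAffine (V : Scheme.{u}) := hV
      infer_instance
    have hWV : W ≤ V := fun x hx => hgB' _ (hZ₀r ▸ Set.mem_range_self x) hx
    have h2 : IsAffineOpen ((V.ι ≫ q₀) ⁻¹ᵁ Dg) := hDg.preimage _
    have h3 := h2.image_of_isOpenImmersion V.ι
    have h4 : V.ι ''ᵁ ((V.ι ≫ q₀) ⁻¹ᵁ Dg) = W := by
      rw [Scheme.Hom.comp_preimage, Scheme.Hom.image_preimage_eq_opensRange_inf, Scheme.Opens.opensRange_ι]
      exact inf_eq_right.2 hWV
    rwa [h4] at h3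
  haveI : IrreducibleSpace ↥Z₀ := by
    haveI : IrreducibleSpace (closure ({z0} : Set X)) :=
      Subtype.irreducibleSpace isIrreducible_singleton.closure
    exact ((I.subschemeι.isClosedEmbedding.isEmbedding.toHomeomorph).trans (Homeomorph.setCongr hZ₀r)).irreducibleSpace_iff.2 inferInstance
  haveI : IsReduced Z₀ := Props12.isReduced_subscheme_vanishingIdeal T
  haveI : IsIntegral Z₀ := isIntegral_of_irreducibleSpace_of_isReduced _
  obtain ⟨η₀, hη₀⟩ : ∃ η₀ : Z₀, I.subschemeι η₀ = z0 := hZ₀r.ge (subset_closure rfl)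
  have hη₀' : η₀ = genericPoint Z₀ := by
    refine I.subschemeι.isClosedEmbedding.injective ((specializes_iff_mem_closure.2 ?_).antisymm
      ((genericPoint_specializes η₀).map I.subschemeι.continuous)).eq
    rw [hη₀]
    exact hZ₀r ▸ Set.mem_range_self _
  have hη₀W : η₀ ∈ W := by
    show q (I.subschemeι η₀) ∈ Dg
    rw [hη₀, hz0η]
    exact fun hg0 => hgp (show g ∈ p.asIdeal from (bot_le : (⊥ : Ideal R) ≤ p.asIdeal) hg0)
  haveI : Nonempty W := ⟨⟨η₀, hη₀W⟩⟩
  haveI : IsIntegral (W : Scheme.{u}) := isIntegral_of_isOpenImmersion W.ι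
  haveI : IsAffine (W : Scheme.{u}) := hW
  haveI : IsProper (q₀ ∣_ Dg) := MorphismProperty.of_isPullback (isPullback_morphismRestrict q₀ Dg).flip inferInstance
  haveI : IsAffine ((Dg : (Spec (CommRingCat.of R)).Opens) : Scheme.{u}) := IsAffineOpen.Spec_basicOpen g
  refine ⟨W, inferInstance, W.ι ≫ I.subschemeι, q₀ ∣_ Dg, ?_, by
    rw [morphismRestrict_ι, Category.assoc], ?_⟩
  · rw [IsFinite.iff_isProper_and_isAffineHom]
    exact ⟨inferInstance, inferInstance⟩
  · have e : W.ι (genericPoint (W : Scheme.{u})) = η₀ := by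
      rw [hη₀']
      exact genericPoint_eq_of_isOpenImmersion W.ι
    show q (I.subschemeι (W.ι _)) = _
    rw [e, hη₀, hz0η]

end Groth.Agent.QFac29
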