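import Mathlib

/-!
# The constant term of the minimal polynomial of a local generator
-/

set_option autoImplicit false

universe u

open Polynomial

namespace Groth.Agent.QFac29

variable {A B : Type u} [CommRing A] [IsDomain A] [IsIntegrallyClosed A] [CommRing B] [IsDomain B]
  [Algebra A B] [Module.Finite A B] [FaithfulSMul A B]

theorem coeff_zero_mem_span (h : B) : algebraMap A B ((minpoly A h).coeff 0) ∈ Ideal.span ({h} : Set B) := by
  have h1 := minpoly.aeval A h
  rw [← divX_mul_X_add (minpoly A h), map_add, map_mul, aeval_X, aeval_C] at h1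
  rw [Ideal.mem_span_singleton']
  exact ⟨-(aeval h (minpoly A h).divX), by linear_combination -h1⟩

/-- if `h` divides an element `s` of the base, the constant term of its minimal polynomial divides a power of `s` -/
theorem coeff_zero_dvd_pow {h b : B} {s : A} (hb : b * h = algebraMap A B s) :
    ∃ m : ℕ, (minpoly A h).coeff 0 ∣ s ^ m := by
  obtain ⟨f, hfm, hf⟩ := Algebra.IsIntegral.isIntegral (R := A) b
  let m := f.natDegree
  let G : A[X] := ∑ i ∈ Finset.range (m + 1), Polynomial.C (f.coeff i * s ^ i) * X ^ (m - i)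
  have hG : aeval h G = 0 := by
    have h1 : aeval b f * h ^ m = 0 := by rw [show aeval b f = 0 from hf, zero_mul]
    rw [← h1, map_sum, aeval_eq_sum_range (p := f), Finset.sum_mul]
    refine Finset.sum_congr rfl fun i hi => ?_
    have him : i ≤ m := Nat.lt_succ_iff.1 (Finset.mem_range.1 hi)
    rw [map_mul, map_pow, aeval_X, aeval_C, map_mul, map_pow, ← hb, mul_pow, Algebra.smul_def]
    rw [show h ^ m = h ^ i * h ^ (m - i) by rw [← pow_add]; congr 1; omega]
    ring
  obtain ⟨r, hr⟩ := minpoly.isIntegrallyClosed_dvd (Algebra.IsIntegral.isIntegral h) hG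
  refine ⟨m, r.coeff 0, ?_⟩
  have h2 : G.coeff 0 = s ^ m := by
    simp only [G, finsetSum_coeff, coeff_C_mul, coeff_X_pow]
    rw [Finset.sum_eq_single m]
    · simp [m, hfm.coeff_natDegree]
    · intro i hi hne
      have : i ≤ m := Nat.lt_succ_iff.1 (Finset.mem_range.1 hi)
      rw [if_neg (by omega), mul_zero]
    · intro hm; simp at hm
  rw [← h2, hr, mul_coeff_zero]

theorem exists_norm_generator [IsNoetherianRing A] {p : Ideal A} [p.IsMaximal] {𝔞 : Ideal B} (h0 : 𝔞 ≠ ⊥)
    (hloc : ∀ M : Ideal B, M.IsMaximal → M.comap (algebraMap A B) = p →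
      ∃ h ∈ 𝔞, ∃ t ∉ M, ∀ x ∈ 𝔞, t * x ∈ Ideal.span ({h} : Set B)) :
    ∃ s ∉ p, ∃ a : A, a ≠ 0 ∧ ∀ (P : Ideal A), P.IsPrime → s ∉ P →
      (a ∈ P ↔ ∃ Q : Ideal B, Q.IsPrime ∧ Q.comap (algebraMap A B) = P ∧ 𝔞 ≤ Q) := by
  classical
  -- the finitely many maximal ideals over `p`
  haveI : IsArtinianRing (B ⧸ p.map (algebraMap A B)) := by
    letI := Ideal.Quotient.field p
    exact IsArtinianRing.of_finite (A ⧸ p) (B ⧸ p.map (algebraMap A B))
  let S : Set (Ideal B) := {M | M.IsMaximal ∧ M.comap (algebraMap A B) = p}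
  have hS : S.Finite := by
    have hfin : {I : Ideal (B ⧸ p.map (algebraMap A B)) | I.IsMaximal}.Finite := IsArtinianRing.setOf_isMaximal_finite _
    refine (hfin.image (Ideal.comap (Ideal.Quotient.mk _))).subset fun M hM => ?_
    have hle : p.map (algebraMap A B) ≤ M := Ideal.map_le_iff_le_comap.2 hM.2.ge
    haveI := hM.1
    refine ⟨M.map (Ideal.Quotient.mk _), ?_, ?_⟩
    · exact Ideal.IsMaximal.map_of_surjective_of_ker_le Ideal.Quotient.mk_surjective (by rwa [Ideal.mk_ker])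
    · rw [Ideal.comap_map_of_surjective _ Ideal.Quotient.mk_surjective, ← RingHom.ker_eq_comap_bot, Ideal.mk_ker,
        sup_eq_left.2 hle]
  haveI : Fintype S := hS.fintype
  choose g hg t ht htg using fun M : S => hloc M.1 M.2.1 M.2.2
  -- Chinese remainder
  have he : ∀ M : S, ∃ e : B, e ∉ M.1 ∧ ∀ M' : S, M' ≠ M → e ∈ M'.1 := by
    intro M
    haveI := M.2.1
    have hne : ∀ M' : S, M' ≠ M → ∃ e ∈ M'.1, e ∉ M.1 := fun M' hne => by
      by_contra! hcon
      exact hne (Subtype.ext (M'.2.1.eq_of_le M.2.1.ne_top hcon))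
    choose e he1 he2 using hne
    refine ⟨∏ M' : {M' : S // M' ≠ M}, e M'.1 M'.2, ?_, fun M' h => ?_⟩
    · intro hmem
      obtain ⟨M', -, h'⟩ := (M.2.1.isPrime).prod_mem_iff.1 hmem
      exact he2 _ M'.2 h'
    · exact Ideal.mem_of_dvd _ (Finset.dvd_prod_of_mem _ (Finset.mem_univ (⟨M', h⟩ : {M' : S // M' ≠ M}))) (he1 _ h)
  choose e he1 he2 using he
  let h := ∑ M : S, e M * g M
  have hh : h ∈ 𝔞 := Ideal.sum_mem _ fun M _ => Ideal.mul_mem_left _ _ (hg M)
  let K : Ideal B := (Ideal.span {h}).colon (𝔞 : Set B)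
  have hK : ∀ M : S, ¬ K ≤ M.1 := by
    intro M hle
    haveI := M.2.1
    -- `h = u * g` modulo `M 𝔞`
    have h1 : ∀ x ∈ 𝔞, ∃ c : B, t M * x = c * g M := fun x hx => by
      obtain ⟨c, hc⟩ := Ideal.mem_span_singleton'.1 (htg M x hx)
      exact ⟨c, hc.symm⟩
    choose c hc using fun M' : S => h1 (g M') (hg M')
    have h2 : t M * h = (t M * e M + ∑ M' ∈ Finset.univ.erase M, e M' * c M') * g M := by
      simp only [h, Finset.mul_sum]
      rw [← Finset.add_sum_erase _ _ (Finset.mem_univ M), add_mul, Finset.sum_mul]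
      congr 1
      · ring
      · refine Finset.sum_congr rfl fun M' _ => ?_
        rw [mul_left_comm, hc M']; ring
    set v := t M * e M + ∑ M' ∈ Finset.univ.erase M, e M' * c M' with hv
    have hvM : v ∉ M.1 := by
      intro hvm
      have hsum : ∑ M' ∈ Finset.univ.erase M, e M' * c M' ∈ M.1 := Ideal.sum_mem _ fun M' hM' =>
        Ideal.mul_mem_right _ _ (he2 M' M (fun h' => Finset.ne_of_mem_erase hM' h'.symm))
      rw [hv, Ideal.add_mem_iff_left _ hsum] at hvm
      exact (M.2.1.isPrime.mem_or_mem hvm).elim (ht M) (he1 M)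
    refine (M.2.1.isPrime.mem_or_mem (hle (show v * t M ∈ K from ?_))).elim hvM (ht M)
    rw [Submodule.mem_colon]
    intro x hx
    obtain ⟨d, hd⟩ := h1 x hx
    rw [smul_eq_mul, Ideal.mem_span_singleton']
    refine ⟨d * t M, ?_⟩
    rw [mul_assoc v, hd, mul_assoc d, h2]; ring
  -- an element of `A` in `K`, outside `p`
  obtain ⟨s, hsK, hsp⟩ : ∃ s, algebraMap A B s ∈ K ∧ s ∉ p := by
    by_contra! hcon
    obtain ⟨Q, hQK, hQ, hQp⟩ := Ideal.exists_ideal_over_prime_of_isIntegral p K fun a ha => hcon a ha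
    haveI := hQ
    have hm : (Q.comap (algebraMap A B)).IsMaximal := hQp.symm ▸ ‹p.IsMaximal›
    exact hK ⟨Q, Ideal.isMaximal_of_isIntegral_of_isMaximal_comap Q hm, hQp⟩ hQK
  have hs0 : s ≠ 0 := fun hs => hsp (hs ▸ p.zero_mem)
  have hdiv : ∀ x ∈ 𝔞, algebraMap A B s * x ∈ Ideal.span ({h} : Set B) := fun x hx => Submodule.mem_colon.1 hsK x hx
  have hne : h ≠ 0 := by
    intro h0'
    obtain ⟨x, hx, hx0⟩ := Submodule.exists_mem_ne_zero_of_ne_bot h0
    have := hdiv x hx
    rw [h0', Ideal.span_singleton_eq_bot.2 rfl, Ideal.mem_bot, mul_eq_zero] at this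
    exact this.elim (fun h => hs0 (FaithfulSMul.algebraMap_injective A B (by rw [h, map_zero]))) hx0
  have ha0 : (minpoly A h).coeff 0 ≠ 0 := by
    intro h0'
    have hint : IsIntegral A h := Algebra.IsIntegral.isIntegral h
    obtain ⟨q, hq⟩ := Polynomial.X_dvd_iff.2 h0'
    rcases (minpoly.irreducible hint).isUnit_or_isUnit hq with hu | hu
    · exact Polynomial.not_isUnit_X hu
    · have h1 := minpoly.aeval A h
      rw [hq, map_mul, aeval_X, mul_eq_zero] at h1
      exact h1.elim hne (hu.map (aeval h)).ne_zero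
  refine ⟨s, hsp, (minpoly A h).coeff 0, ha0,
    fun P hP hsP => ⟨fun ha => ?_, ?_⟩⟩
  · haveI := hP
    obtain ⟨Q, hQ, hQp, hQh⟩ : ∃ Q : Ideal B, Q.IsPrime ∧ Q.comap (algebraMap A B) = P ∧ h ∈ Q := by
      by_contra! hcon
      obtain ⟨s', hs', hs'P⟩ : ∃ s', algebraMap A B s' ∈ Ideal.span ({h} : Set B) ∧ s' ∉ P := by
        by_contra! hc
        obtain ⟨Q, hQK, hQ, hQp⟩ := Ideal.exists_ideal_over_prime_of_isIntegral P (Ideal.span {h}) fun a ha => hc a ha
        exact hcon Q hQ hQp (hQK (Ideal.mem_span_singleton_self h))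
      obtain ⟨b, hb⟩ := Ideal.mem_span_singleton'.1 hs'
      obtain ⟨m, hm⟩ := coeff_zero_dvd_pow hb
      exact hs'P (hP.mem_of_pow_mem m (P.mem_of_dvd hm ha))
    refine ⟨Q, hQ, hQp, fun x hx => ?_⟩
    have h1 : algebraMap A B s * x ∈ Q := (Ideal.span_singleton_le_iff_mem _).2 hQh (hdiv x hx)
    exact (hQ.mem_or_mem h1).resolve_left fun h2 => hsP (hQp ▸ Ideal.mem_comap.2 h2)
  · rintro ⟨Q, hQ, hQp, hle⟩
    rw [← hQp, Ideal.mem_comap]
    exact (Ideal.span_singleton_le_iff_mem _).2 (hle hh) (coeff_zero_mem_span h)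

end Groth.Agent.QFac29
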