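import Mathlib
import Groth.Prelude.Def_FGA
import Groth.Agent.QFac29.Multisection
import Groth.Agent.QFac29.Norm
import Groth.Agent.ProjLib.IdealComap
import Groth.Agent.EGA43.FiniteCrit.Limit
import Groth.Agent.EGA43.Chevalley.Fibre
import Groth.Agent.Et18.Thick.Over
import Groth.Agent.RelVALib.Projective
import Groth.Agent.RelVALib.PnImm
import Groth.Agent.CAlgSmall.ProjMore
import Groth.Agent.H8Lim.Approximation

/-!
# A prime divisor below a Q-factorial equidimensional projective family is locally cut out by one function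
-/

set_option autoImplicit false
set_option linter.style.haveILetI false
set_option backward.isDefEq.respectTransparency false

universe u

open CategoryTheory CategoryTheory.Limits AlgebraicGeometry IsLocalRing TopologicalSpace

namespace Groth.Agent.QFac29

theorem isProper_of_locProj {X Y : Scheme.{u}} (π : X ⟶ Y) (h : RelProj.IsLocallyProjective π) : IsProper π := by
  choose V hV hp using h
  exact (IsZariskiLocalAtTarget.iff_of_iSup_eq_top (P := @IsProper) V
    (top_le_iff.1 fun s _ => Opens.mem_iSup.2 ⟨s, hV s⟩)).2 fun s => RelVALib.isProper_of_isProjective (hp s)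

variable {X Y : Scheme.{u}} [IsIntegral X] [IsIntegral Y] [IsNoetherian X] [IsNoetherian Y]

/-- the generic points of the fibre over a height one point of the base have height one -/
theorem height_one_of_maximal_fibre (π : X ⟶ Y) (hπ : π (genericPoint X) = genericPoint Y)
    {η : Y} (hη : ringKrullDim (Y.presheaf.stalk η) = 1) {x : X} (hx : π x = η)
    (hmax : ∀ w, w ⤳ x → π w = η → w = x) : ringKrullDim (X.presheaf.stalk x) = 1 := by
  subst hx
  obtain ⟨t, ht, ht0⟩ : ∃ t ∈ maximalIdeal (Y.presheaf.stalk (π x)), t ≠ 0 := by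
    refine Submodule.exists_mem_ne_zero_of_ne_bot fun hb => ?_
    have hf : IsField (Y.presheaf.stalk (π x)) := IsLocalRing.isField_iff_maximalIdeal_eq.2 hb
    rw [ringKrullDim_eq_zero_of_isField hf] at hη
    exact zero_ne_one hη
  let f := (π.stalkMap x).hom
  have hprim : ∀ Q : Ideal (Y.presheaf.stalk (π x)), Q.IsPrime → Q ≠ ⊥ → Q = maximalIdeal _ := by
    intro Q hQ hne
    have : Ring.KrullDimLE 1 (Y.presheaf.stalk (π x)) := Ring.krullDimLE_iff.2 hη.le
    exact IsLocalRing.eq_maximalIdeal (Ring.krullDimLE_one_iff_of_noZeroDivisors.1 this Q hne hQ)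
  have hft : f t ≠ 0 := by
    intro h0
    have h1 : ((Y.presheaf.stalkSpecializes (((genericPoint_specializes x)).map π.continuous)) ≫
        π.stalkMap (genericPoint X)).hom t = 0 := by
      rw [Scheme.Hom.stalkSpecializes_stalkMap]
      show (X.presheaf.stalkSpecializes (genericPoint_specializes x)).hom (f t) = 0
      rw [h0, map_zero]
    have hgen : genericPoint Y ⤳ π x := genericPoint_specializes _
    haveI hFF : IsField (Y.presheaf.stalk (π (genericPoint X))) := by
      rw [hπ]; exact Field.toIsField Y.functionField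
    letI := hFF.toField
    have h2 : (Y.presheaf.stalkSpecializes ((genericPoint_specializes x).map π.continuous)).hom t = 0 :=
      (RingHom.injective (π.stalkMap (genericPoint X)).hom) (h1.trans (map_zero _).symm)
    have key : ∀ (z : Y) (hz : z = genericPoint Y) (h : z ⤳ π x), (Y.presheaf.stalkSpecializes h).hom t = 0 → t = 0 := by
      rintro z rfl h e
      exact IsFractionRing.injective (Y.presheaf.stalk (π x)) Y.functionField (e.trans (map_zero _).symm)
    exact ht0 (key _ hπ _ h2)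
  obtain ⟨P, hP, -⟩ := Ideal.exists_minimalPrimes_le
    (show Ideal.span {f t} ≤ maximalIdeal (X.presheaf.stalk x) from (Ideal.span_singleton_le_iff_mem _).2
      ((mem_maximalIdeal _).2 fun hu => (mem_maximalIdeal _).1 ht (isUnit_of_map_unit f t hu)))
  haveI := hP.1.1
  have hPx : X.fromSpecStalk x ⟨P, hP.1.1⟩ = x := by
    refine hmax _ ?_ ?_
    · have : X.fromSpecStalk x ⟨P, hP.1.1⟩ ∈ Set.range (X.fromSpecStalk x) := ⟨_, rfl⟩
      rwa [Scheme.range_fromSpecStalk] at this
    · have e := congrArg (fun g => g (⟨P, hP.1.1⟩ : PrimeSpectrum (X.presheaf.stalk x)))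
        (Scheme.SpecMap_stalkMap_fromSpecStalk π (x := x))
      simp only [Scheme.Hom.comp_apply] at e
      have hne : P.comap f ≠ ⊥ := fun hb => ht0 ((Submodule.mem_bot _).1
        (hb.le (show t ∈ P.comap f from hP.1.2 (Ideal.mem_span_singleton_self _))))
      rw [← e, show Spec.map (π.stalkMap x) (⟨P, hP.1.1⟩ : PrimeSpectrum (X.presheaf.stalk x)) =
        closedPoint (Y.presheaf.stalk (π x)) from PrimeSpectrum.ext (hprim _ (Ideal.IsPrime.comap f) hne)]
      exact Scheme.fromSpecStalk_closedPoint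
  have hPm : P = maximalIdeal _ := by
    have := (X.fromSpecStalk x).isEmbedding.injective (hPx.trans (Scheme.fromSpecStalk_closedPoint (x := x)).symm)
    exact congrArg PrimeSpectrum.asIdeal this
  have h1 := Ideal.height_le_one_of_isPrincipal_of_mem_minimalPrimes (Ideal.span {f t}) P hP
  have h2 : P ≠ ⊥ := fun hb => hft (by simpa [hb] using hP.1.2 (Ideal.mem_span_singleton_self (f t)))
  have h3 : P.height = 1 := le_antisymm h1 (Order.one_le_iff_pos.2 (pos_iff_ne_zero.2
    fun h0 => h2 ((Ideal.height_eq_zero_iff_eq_bot).1 h0)))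
  rw [← IsLocalRing.maximalIdeal_height_eq_ringKrullDim, ← hPm, h3]
  rfl

theorem exists_local_equation (hYn : Pi1.IsNormalScheme Y) (π : X ⟶ Y) (hπ : RelProj.IsLocallyProjective π)
    [Surjective π] (d : ℕ) (hd : ∀ y : Y, topologicalKrullDim (↥(π.fiber y) : Type u) = d)
    (hX : ∀ ξ : X, ringKrullDim (X.presheaf.stalk ξ) = 1 →
      ∃ I : X.IdealSheafData, FGA.IsEffCartier I ∧ (I.support : Set X) = closure {ξ})
    {η : Y} (hη : ringKrullDim (Y.presheaf.stalk η) = 1) {y : Y} (hy : IsClosed ({y} : Set Y))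
    (hyη : η ⤳ y) :
    ∃ (W : Y.Opens) (_ : IsAffineOpen W) (_ : y ∈ W) (a : Γ(Y, W)),
      ∀ w ∈ W, (w ∈ Y.basicOpen a ↔ ¬ η ⤳ w) := by
  classical
  haveI : IsDominant π := ⟨(Surjective.surj (f := π)).denseRange⟩
  have hgen : π (genericPoint X) = genericPoint Y := by
    refine ((genericPoint_spec X).image π.continuous).eq ?_
    rw [Set.image_univ, (Surjective.surj (f := π)).range_eq, closure_univ]
    exact genericPoint_spec Y
  have hηgen : η ≠ genericPoint Y := by
    rintro rfl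
    rw [ringKrullDim_eq_zero_of_isField (Field.toIsField Y.functionField)] at hη
    exact zero_ne_one hη
  -- a projective embedding over an affine neighbourhood
  obtain ⟨U, hyU, hU⟩ := hπ y
  obtain ⟨V, hV, hyV, hVU⟩ := exists_isAffineOpen_mem_and_subset (x := y) (U := U) hyU
  let R : CommRingCat.{u} := Γ(Y, V)
  let e : Spec R ⟶ Y := hV.fromSpec
  haveI : IsDomain R := by
    haveI : Nonempty V := ⟨⟨y, hyV⟩⟩
    infer_instance
  haveI : IsNoetherianRing R := IsLocallyNoetherian.component_noetherian ⟨V, hV⟩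
  let q := pullback.snd π e
  have hq : RelProj.IsProjective q := by
    have hle : Set.range e ⊆ Set.range U.ι := by
      rw [Scheme.Opens.range_ι, show Set.range e = (V : Set Y) from hV.range_fromSpec]
      exact hVU
    let eU : Spec R ⟶ U := IsOpenImmersion.lift U.ι e hle
    have h1 : eU ≫ U.ι = e := IsOpenImmersion.lift_fac _ _ _
    let l : pullback π e ⟶ (π ⁻¹ᵁ U : Scheme.{u}) :=
      (isPullback_morphismRestrict π U).flip.lift (pullback.fst π e) (pullback.snd π e ≫ eU)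
        (by rw [Category.assoc, h1, pullback.condition])
    refine RelVALib.isProjective_baseChange (g' := l) (g := eU) (f := π ∣_ U) ?_ hU
    refine IsPullback.of_right ?_ ((isPullback_morphismRestrict π U).flip.lift_snd _ _ _) (isPullback_morphismRestrict π U).flip
    rw [(isPullback_morphismRestrict π U).flip.lift_fst, h1]
    exact IsPullback.of_hasPullback π e
  obtain ⟨N, i₀, hi₀, hiq₀⟩ := (RelVALib.isProjective_iff_isHProjective
    (CAlgSmall.ProjMore.isAmple_of_isAffine (S := Spec R)) q).1 hq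
  obtain ⟨eP, heP⟩ := Et18.Thick.exists_iso N R
  haveI := hi₀
  let i : pullback π e ⟶ CohB1.ProjSpace N R := i₀ ≫ eP.inv
  have hiq : i ≫ CohB1.ProjSpace.toSpec N R = q := by
    rw [← heP]
    simp only [i, Category.assoc, Iso.inv_hom_id_assoc]
    exact hiq₀
  -- fibres
  have hfib : ∀ r : ↥(Spec R), topologicalKrullDim ((i ≫ CohB1.ProjSpace.toSpec N R) ⁻¹' {r} : Set ↥(pullback π e)) = d := by
    intro r
    rw [hiq, ← hd (e r)]
    let fst := pullback.fst π e
    have hinj : Function.Injective e := e.isOpenEmbedding.injective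
    have hmem : ∀ z : (q ⁻¹' {r} : Set ↥(pullback π e)), fst z.1 ∈ π ⁻¹' {e r} := fun z => by
      show π (fst z.1) = e r
      rw [← Scheme.Hom.comp_apply, pullback.condition, Scheme.Hom.comp_apply, show q z.1 = r from z.2]
    have hE : Topology.IsEmbedding (fun z : (q ⁻¹' {r} : Set ↥(pullback π e)) => (⟨fst z.1, hmem z⟩ : (π ⁻¹' {e r} : Set X))) :=
      Topology.IsEmbedding.codRestrict (fst.isOpenEmbedding.isEmbedding.comp Topology.IsEmbedding.subtypeVal) _ _
    have hsurj : Function.Surjective (fun z : (q ⁻¹' {r} : Set ↥(pullback π e)) => (⟨fst z.1, hmem z⟩ : (π ⁻¹' {e r} : Set X))) := by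
      rintro ⟨x, hx⟩
      obtain ⟨z, hz1, hz2⟩ := Scheme.Pullback.exists_preimage_pullback x r hx
      exact ⟨⟨z, hz2⟩, Subtype.ext hz1⟩
    rw [← (π.fiberHomeo (e r)).symm.isHomeomorph.topologicalKrullDim_eq]
    exact ((hE.toHomeomorphOfSurjective hsurj)).isHomeomorph.topologicalKrullDim_eq
  obtain ⟨yR, hyR⟩ : ∃ yR : ↥(Spec R), e yR = y := hV.range_fromSpec.ge hyV
  obtain ⟨g, hg, Z, hZi, j, h, hfin, hj, hjgen⟩ := exists_multisection i d yR (hfib yR).le (hfib _).ge
  rw [hiq] at hj hjgen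
  haveI := hZi
  haveI := hfin
  -- the neighbourhood and the finite extension
  let Dg : (Spec R).Opens := Dop g
  have hDg : IsAffineOpen Dg := IsAffineOpen.Spec_basicOpen g
  haveI : IsAffine (Dg : Scheme.{u}) := hDg
  haveI : IsAffine Z := isAffine_of_isAffineHom h
  let A : CommRingCat.{u} := Γ((Dg : Scheme.{u}), ⊤)
  let B : CommRingCat.{u} := Γ(Z, ⊤)
  let eA : Spec A ⟶ Y := (Dg : Scheme.{u}).isoSpec.inv ≫ Dg.ι ≫ e
  let ψ : Spec B ⟶ X := Z.isoSpec.inv ≫ j ≫ pullback.fst π e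
  let m : A ⟶ B := h.appTop
  have hcomm : ψ ≫ π = Spec.map m ≫ eA := by
    have h1 : Z.isoSpec.inv ≫ h = Spec.map m ≫ (Dg : Scheme.{u}).isoSpec.inv :=
      (Scheme.isoSpec_inv_naturality h).symm
    simp only [ψ, eA, Category.assoc, pullback.condition]
    rw [← reassoc_of% h1, ← Category.assoc h Dg.ι, show h ≫ Dg.ι = j ≫ q from hj, Category.assoc]
  letI : Algebra A B := m.hom.toAlgebra
  haveI : Module.Finite A B := (HasAffineProperty.iff_of_isAffine (P := @IsFinite)).1 hfin |>.2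
  haveI : Nonempty Dg := ⟨h (genericPoint Z)⟩
  haveI : IsDomain A := by
    haveI : IsIntegral (Spec R) := inferInstance
    haveI : IsIntegral (Dg : Scheme.{u}) := isIntegral_of_isOpenImmersion Dg.ι
    infer_instance
  haveI : IsDomain B := by infer_instance
  haveI : IsNoetherianRing A := by
    haveI : IsLocallyNoetherian (Dg : Scheme.{u}) := isLocallyNoetherian_of_isOpenImmersion (Dg.ι ≫ e)
    exact IsLocallyNoetherian.component_noetherian ⟨⊤, isAffineOpen_top _⟩
  haveI : IsIntegrallyClosed A := by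
    haveI : IsIntegral (Dg : Scheme.{u}) := isIntegral_of_isOpenImmersion Dg.ι
    haveI : Nonempty (⊤ : (Dg : Scheme.{u}).Opens) := ⟨⟨h (genericPoint Z), trivial⟩⟩
    refine H8Lim.isIntegrallyClosed_of_isAffineOpen (Y := (Dg : Scheme.{u})) (fun x => ?_) (isAffineOpen_top _)
    haveI := (hYn ((Dg.ι ≫ e) x)).1
    haveI := (hYn ((Dg.ι ≫ e) x)).2
    exact IsIntegrallyClosed.of_equiv (asIso ((Dg.ι ≫ e).stalkMap x)).commRingCatIsoToRingEquiv
  have heA : Function.Injective eA := eA.isOpenEmbedding.injective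
  have hpt : ∀ Q : ↥(Spec B), π (ψ Q) = eA (Spec.map m Q) := fun Q => by
    rw [← Scheme.Hom.comp_apply, hcomm, Scheme.Hom.comp_apply]
  have hψgen : π (ψ (genericPoint (Spec B))) = genericPoint Y := by
    have h1 : Z.isoSpec.inv (genericPoint (Spec B)) = genericPoint Z := genericPoint_eq_of_isOpenImmersion _
    show π (pullback.fst π e (j (Z.isoSpec.inv (genericPoint (Spec B))))) = _
    rw [h1, ← Scheme.Hom.comp_apply, pullback.condition, Scheme.Hom.comp_apply,
      show q (j (genericPoint Z)) = _ from hjgen]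
    rw [← genericPoint_eq_of_isOpenImmersion e, genericPoint_eq_bot_of_affine]
  haveI : FaithfulSMul A B := by
    rw [faithfulSMul_iff_algebraMap_injective, RingHom.injective_iff_ker_eq_bot]
    have h1 : eA (Spec.map m (genericPoint (Spec B))) = eA (genericPoint (Spec A)) := by
      rw [← hpt, hψgen, genericPoint_eq_of_isOpenImmersion eA]
    have h2 := congrArg PrimeSpectrum.asIdeal (heA h1)
    rw [genericPoint_eq_bot_of_affine, genericPoint_eq_bot_of_affine] at h2
    exact (RingHom.ker_eq_comap_bot _).trans h2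
  -- the divisor upstairs
  haveI : LocallyOfFiniteType π := by
    haveI := isProper_of_locProj π hπ
    infer_instance
  haveI : QuasiCompact π := inferInstance
  let S : Set X := {x | π x = η ∧ ∀ w, w ⤳ x → π w = η → w = x}
  have hS : S.Finite := EGA43.FiniteCrit.finite_maximal_fibre π η
  choose I hI hIs using fun x : hS.toFinset => hX x.1
    (height_one_of_maximal_fibre π hgen hη (hS.mem_toFinset.1 x.2).1 (hS.mem_toFinset.1 x.2).2)
  let 𝔟 : hS.toFinset → Ideal B := fun x =>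
    (((I x).comap ψ).ideal ⟨⊤, isAffineOpen_top (Spec B)⟩).map (Scheme.ΓSpecIso B).hom.hom
  have hzero : ∀ (x : hS.toFinset) (Q : ↥(Spec B)), 𝔟 x ≤ Q.asIdeal ↔ x.1 ⤳ ψ Q := by
    intro x Q
    have h1 : Q ∈ ((I x).comap ψ).support ↔ x.1 ⤳ ψ Q := by
      rw [Scheme.IdealSheafData.support_comap]
      show ψ Q ∈ ((I x).support : Set X) ↔ _
      rw [hIs, specializes_iff_mem_closure]
    rw [← h1, Scheme.IdealSheafData.mem_support_iff_of_mem (U := ⟨⊤, isAffineOpen_top (Spec B)⟩) trivial,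
      Scheme.mem_zeroLocus_iff, Ideal.map_le_iff_le_comap]
    refine forall₂_congr fun b _ => ?_
    rw [basicOpen_eq_of_affine']
    exact ⟨fun hb hmem => hmem hb, fun hb => not_not.1 hb⟩
  let 𝔞 : Ideal B := ∏ x : hS.toFinset, 𝔟 x
  have h𝔟0 : ∀ x, 𝔟 x ≠ ⊥ := by
    intro x hx0
    have h1 := (hzero x (genericPoint (Spec B))).1 (hx0 ▸ bot_le)
    have h2 : η ⤳ genericPoint Y := by
      have := h1.map π.continuous
      rwa [(hS.mem_toFinset.1 x.2).1, hψgen] at this
    exact hηgen (h2.antisymm (genericPoint_specializes η)).eq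
  have h𝔞0 : 𝔞 ≠ ⊥ := by
    rw [Ne, ← Ideal.zero_eq_bot, Finset.prod_eq_zero_iff]
    rintro ⟨x, -, hx⟩
    exact h𝔟0 x hx
  have h𝔟loc : ∀ (x : hS.toFinset) (M : Ideal B), M.IsMaximal →
      ∃ b ∈ 𝔟 x, ∃ t ∉ M, ∀ z ∈ 𝔟 x, t * z ∈ Ideal.span ({b} : Set B) := by
    intro x M hM
    let Q : ↥(Spec B) := ⟨M, hM.isPrime⟩
    obtain ⟨U', hQU, a, -, ha⟩ := hI x (ψ Q)
    obtain ⟨_, ⟨t, rfl⟩, htQ, htsub⟩ := PrimeSpectrum.isTopologicalBasis_basic_opens.exists_subset_of_mem_open
      (show Q ∈ ((ψ ⁻¹ᵁ U'.1 : (Spec B).Opens) : Set _) from hQU) (ψ ⁻¹ᵁ U'.1).2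
    let t' := (Scheme.ΓSpecIso B).inv t
    have hb : (Spec B).basicOpen t' = PrimeSpectrum.basicOpen t := basicOpen_eq_of_affine t
    let Vt : (Spec B).affineOpens := (Spec B).affineBasicOpen (U := ⟨⊤, isAffineOpen_top _⟩) t'
    have hle : Vt.1 ≤ ψ ⁻¹ᵁ U'.1 := fun z hz => htsub (hb ▸ hz : z ∈ PrimeSpectrum.basicOpen t)
    have h1 := ProjLib.comap_ideal_eq (I x) ψ U' Vt hle
    rw [ha, Ideal.map_span, Set.image_singleton,
      ← ((I x).comap ψ).map_ideal_basicOpen ⟨⊤, isAffineOpen_top _⟩ t'] at h1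
    set K := ((I x).comap ψ).ideal ⟨⊤, isAffineOpen_top (Spec B)⟩ with hK
    let res := ((Spec B).presheaf.map (homOfLE ((Spec B).basicOpen_le t')).op).hom
    letI : Algebra Γ(Spec B, ⊤) Γ(Spec B, (Spec B).basicOpen t') := res.toAlgebra
    haveI : IsLocalization.Away t' Γ(Spec B, (Spec B).basicOpen t') := (isAffineOpen_top (Spec B)).isLocalization_basicOpen t'
    set a' := (ψ.appLE U'.1 Vt.1 hle).hom a with ha'
    have h2 : K.map (algebraMap Γ(Spec B, ⊤) Γ(Spec B, (Spec B).basicOpen t')) = Ideal.span {a'} := h1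
    obtain ⟨⟨⟨b, hbK⟩, ⟨_, k, rfl⟩⟩, hbk⟩ := (IsLocalization.mem_map_algebraMap_iff (Submonoid.powers t') _).1
      (h2.ge (Ideal.mem_span_singleton_self a'))
    refine ⟨(Scheme.ΓSpecIso B).hom b, Ideal.mem_map_of_mem _ hbK, ?_⟩
    -- clear denominators on generators
    haveI : IsNoetherianRing Γ(Spec B, ⊤) := by
      haveI : IsNoetherianRing B := Algebra.FiniteType.isNoetherianRing A B
      exact isNoetherianRing_of_ringEquiv B (Scheme.ΓSpecIso B).symm.commRingCatIsoToRingEquiv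
    obtain ⟨G, hG⟩ := IsNoetherian.noetherian K
    have h3 : ∀ z ∈ K, ∃ n : ℕ, t' ^ n * z ∈ Ideal.span ({b} : Set Γ(Spec B, ⊤)) := by
      intro z hz
      obtain ⟨c, hc⟩ := Ideal.mem_span_singleton'.1 (h2.le (Ideal.mem_map_of_mem _ hz))
      obtain ⟨⟨c₀, ⟨_, l, rfl⟩⟩, hcl⟩ := IsLocalization.surj (Submonoid.powers t') c
      have e1 : algebraMap Γ(Spec B, ⊤) Γ(Spec B, (Spec B).basicOpen t') (t' ^ (l + k) * z) =
          algebraMap Γ(Spec B, ⊤) Γ(Spec B, (Spec B).basicOpen t') (c₀ * b) := by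
        simp only [pow_add, map_mul, ← hc]
        simp only [] at hbk hcl
        rw [← hbk, ← hcl]
        ring
      obtain ⟨⟨_, o, rfl⟩, ho⟩ := (IsLocalization.eq_iff_exists (Submonoid.powers t') _).1 e1
      refine ⟨o + (l + k), Ideal.mem_span_singleton'.2 ⟨t' ^ o * c₀, ?_⟩⟩
      simp only [] at ho
      rw [pow_add, mul_assoc, mul_assoc, ho]
    have h4 : ∃ n : ℕ, ∀ z ∈ K, t' ^ n * z ∈ Ideal.span ({b} : Set Γ(Spec B, ⊤)) := by
      choose n hn using fun z : (G : Set Γ(Spec B, ⊤)) => h3 z.1 (hG ▸ Submodule.subset_span z.2)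
      refine ⟨∑ z, n z, fun z hz => ?_⟩
      rw [← hG] at hz
      induction hz using Submodule.span_induction with
      | mem z hz =>
        obtain ⟨o, ho⟩ := Nat.exists_eq_add_of_le
          (Finset.single_le_sum (fun w _ => Nat.zero_le (n w)) (Finset.mem_univ (⟨z, hz⟩ : (G : Set Γ(Spec B, ⊤)))))
        rw [ho, pow_add, mul_comm (t' ^ _), mul_assoc]
        exact Ideal.mul_mem_left _ _ (hn ⟨z, hz⟩)
      | zero => simp
      | add z w _ _ hz hw => rw [mul_add]; exact add_mem hz hw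
      | smul c z _ hz => rw [smul_eq_mul, mul_left_comm]; exact Ideal.mul_mem_left _ _ hz
    obtain ⟨n, hn⟩ := h4
    refine ⟨t ^ n, fun hh => htQ (hM.isPrime.mem_of_pow_mem n hh), fun z hz => ?_⟩
    obtain ⟨z', hz', rfl⟩ := (Ideal.mem_map_iff_of_surjective _
      (Scheme.ΓSpecIso B).commRingCatIsoToRingEquiv.surjective).1 hz
    have := Ideal.mem_map_of_mem (Scheme.ΓSpecIso B).hom.hom (hn z' hz')
    rw [Ideal.map_span, Set.image_singleton, map_mul, map_pow,
      show (Scheme.ΓSpecIso B).hom.hom t' = t from (Scheme.ΓSpecIso B).inv_hom_id_apply t] at this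
    exact this
  have h𝔞loc : ∀ M : Ideal B, M.IsMaximal → ∃ b ∈ 𝔞, ∃ t ∉ M, ∀ z ∈ 𝔞, t * z ∈ Ideal.span ({b} : Set B) := by
    intro M hM
    choose b hb t ht hbt using fun x => h𝔟loc x M hM
    refine ⟨∏ x, b x, Ideal.prod_mem_prod fun x _ => hb x, ∏ x, t x, fun hh => ?_, fun z hz => ?_⟩
    · obtain ⟨x, -, hx⟩ := hM.isPrime.prod_mem_iff.1 hh
      exact ht x hx
    · suffices H : ∀ s : Finset hS.toFinset, ∀ z ∈ ∏ x ∈ s, 𝔟 x, (∏ x ∈ s, t x) * z ∈ Ideal.span ({∏ x ∈ s, b x} : Set B) from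
        H Finset.univ z hz
      intro s
      induction s using Finset.induction_on with
      | empty => intro z _; simp
      | insert x s hx ih =>
        intro z hz
        rw [Finset.prod_insert hx] at hz ⊢
        rw [Finset.prod_insert hx]
        induction hz using Submodule.mul_induction_on' with
        | mem_mul_mem u hu v hv =>
          rw [mul_mul_mul_comm, ← Ideal.span_singleton_mul_span_singleton]
          exact Ideal.mul_mem_mul (hbt x u hu) (ih v hv)
        | add u _ v _ hu hv => rw [mul_add]; exact add_mem hu hv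
  -- the point `y` in `Spec A`
  obtain ⟨pA, hpA⟩ : ∃ pA : ↥(Spec A), eA pA = y := by
    refine ⟨(Dg : Scheme.{u}).isoSpec.hom ⟨yR, hg⟩, ?_⟩
    show e (Dg.ι ((Dg : Scheme.{u}).isoSpec.inv ((Dg : Scheme.{u}).isoSpec.hom ⟨yR, hg⟩))) = y
    rw [← Scheme.Hom.comp_apply (Dg : Scheme.{u}).isoSpec.hom, Iso.hom_inv_id]
    exact hyR
  haveI : pA.asIdeal.IsMaximal := by
    refine (PrimeSpectrum.isClosed_singleton_iff_isMaximal _).1 ?_
    have : eA ⁻¹' {y} = {pA} := Set.ext fun z => ⟨fun hz => heA (hz.trans hpA.symm), fun hz => hz ▸ hpA⟩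
    exact this ▸ hy.preimage eA.continuous
  obtain ⟨s, hs, a, ha0, hsa⟩ := exists_norm_generator (A := A) (B := B) (p := pA.asIdeal) h𝔞0
    (fun M hM _ => h𝔞loc M hM)
  have hzero' : ∀ Q : ↥(Spec B), 𝔞 ≤ Q.asIdeal ↔ ∃ x ∈ S, x ⤳ ψ Q := by
    intro Q
    rw [Ideal.IsPrime.prod_le Q.isPrime]
    constructor
    · rintro ⟨x, -, hx⟩
      exact ⟨x.1, hS.mem_toFinset.1 x.2, (hzero x Q).1 hx⟩
    · rintro ⟨x, hxS, hx⟩
      exact ⟨⟨x, hS.mem_toFinset.2 hxS⟩, Finset.mem_univ _, (hzero ⟨x, _⟩ Q).2 hx⟩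
  have key : ∀ P : ↥(Spec A), s ∉ P.asIdeal → (a ∈ P.asIdeal ↔ η ⤳ eA P) := by
    intro P hsP
    constructor
    · intro ha
      obtain ⟨Q, hQ, hQP, hle⟩ := (hsa P.asIdeal P.isPrime hsP).1 ha
      obtain ⟨x, hxS, hx⟩ := (hzero' ⟨Q, hQ⟩).1 hle
      have := hx.map π.continuous
      rwa [hxS.1, hpt, show Spec.map m ⟨Q, hQ⟩ = P from PrimeSpectrum.ext hQP] at this
    · intro hP
      obtain ⟨P', hP'⟩ : ∃ P', eA P' = η := by
        obtain ⟨P', hP'⟩ := hP.mem_open eA.isOpenEmbedding.isOpen_range ⟨P, rfl⟩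
        exact ⟨P', hP'⟩
      have hle : P'.asIdeal ≤ P.asIdeal := (PrimeSpectrum.le_iff_specializes _ _).2
        ((eA.isOpenEmbedding.isEmbedding.isInducing.specializes_iff).1 (hP' ▸ hP))
      have hsP' : s ∉ P'.asIdeal := fun h' => hsP (hle h')
      obtain ⟨Q, -, hQ, hQP'⟩ := Ideal.exists_ideal_over_prime_of_isIntegral P'.asIdeal (⊥ : Ideal B)
        (by rw [← RingHom.ker_eq_comap_bot, (RingHom.injective_iff_ker_eq_bot _).1
          (FaithfulSMul.algebraMap_injective A B)]; exact bot_le)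
      have hπQ : π (ψ ⟨Q, hQ⟩) = η := by
        rw [hpt, show Spec.map m ⟨Q, hQ⟩ = P' from PrimeSpectrum.ext hQP', hP']
      obtain ⟨x, hx, hxη, hxmax⟩ := EGA43.Chevalley.exists_maximal_in_fibre π (ψ ⟨Q, hQ⟩)
      refine hle ((hsa P'.asIdeal P'.isPrime hsP').2 ⟨Q, hQ, hQP', (hzero' ⟨Q, hQ⟩).2 ⟨x, ⟨hxη.trans hπQ, ?_⟩, hx⟩⟩)
      exact fun w hw hwη => hxmax w hw (hwη.trans hπQ.symm)
  -- transport to an open of `Y`
  let W₀ : Y.Opens := eA ''ᵁ ⊤
  have hW₀ : IsAffineOpen W₀ := (isAffineOpen_top _).image_of_isOpenImmersion eA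
  let up : A → Γ(Y, W₀) := fun c => (eA.appIso ⊤).inv ((Scheme.ΓSpecIso A).inv c)
  have hup : ∀ (c : A) (P : ↥(Spec A)), eA P ∈ Y.basicOpen (up c) ↔ c ∉ P.asIdeal := by
    intro c P
    rw [← Scheme.image_basicOpen, basicOpen_eq_of_affine]
    exact ⟨fun ⟨P', hP', he⟩ => heA he ▸ hP', fun hc => ⟨P, hc, rfl⟩⟩
  refine ⟨Y.basicOpen (up s), hW₀.basicOpen _, hpA ▸ (hup s pA).2 hs,
    (Y.presheaf.map (homOfLE (Y.basicOpen_le (up s))).op).hom (up a), fun w hw => ?_⟩
  obtain ⟨P, -, rfl⟩ := Y.basicOpen_le _ hw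
  rw [Scheme.basicOpen_res]
  constructor
  · intro h1 h2
    exact (hup a P).1 h1.2 ((key P ((hup s P).1 hw)).2 h2)
  · intro h2
    exact ⟨hw, (hup a P).2 fun ha => h2 ((key P ((hup s P).1 hw)).1 ha)⟩

end Groth.Agent.QFac29
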